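import Cfsg.Prelude.Def_Spor_HN

/-!
Lifting the generators of the presented Harada-Norton group to a central extension, given that the
relators in `x, y` hold for suitable lifts inside a subgroup on which the projection is injective.
-/

set_option autoImplicit false

namespace CfsgLib.HNMult

open Cfsg.Spor
open scoped commutatorElement

variable {Γ : Type} [Group Γ] (σ : Γ →* HN)

/-- generators -/
abbrev gen (g : HN.Gen) : HN := PresentedGroup.of g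

theorem rel_one {r : FreeGroup HN.Gen} (hr : r ∈ HN.extra) :
    FreeGroup.lift (fun g => (PresentedGroup.of g : HN)) r = 1 := by
  have h : (FreeGroup.lift fun g => (PresentedGroup.of g : HN)) = PresentedGroup.mk _ :=
    FreeGroup.ext_hom _ _ fun g => by rw [FreeGroup.lift_apply_of]; rfl
  rw [h]
  exact PresentedGroup.one_of_mem (Or.inr hr)

variable {σ}

/-- A central extension splits as soon as the relators in `x, y, z` are controlled by a subgroup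
on which the projection is injective. -/
theorem exists_section (hs : Function.Surjective σ) (hc : σ.ker ≤ Subgroup.center Γ) (D : Subgroup Γ)
    (hD : ∀ u ∈ D, σ u = 1 → u = 1) {X Y : Γ} (hXD : X ∈ D) (hYD : Y ∈ D) (hX : σ X = gen .x)
    (hY : σ Y = gen .y) (hX4 : gen .x ^ 4 = 1)
    (hn : ∀ g : Γ, σ g = gen .z → ∀ d ∈ D, g⁻¹ * d * g ∈ D) :
    ∃ τ : HN →* Γ, σ.comp τ = MonoidHom.id _ := by
  have hrel := @rel_one
  -- relators of `HN`
  have r0 := hrel (r := HN.y ^ 6) (by simp [HN.extra])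
  have r1 := hrel (r := (HN.x ^ 2) * HN.y * (HN.x ^ 2) * (HN.y⁻¹)) (by simp [HN.extra])
  have r2 := hrel (r := (HN.x⁻¹ * HN.y⁻¹ * HN.x * HN.y) ^ 3) (by simp [HN.extra])
  have r3 := hrel (r := ((HN.x⁻¹) * (HN.y ^ 2) * HN.x * (HN.y ^ 3)) ^ 3) (by simp [HN.extra])
  have r4 := hrel (r := (HN.x * HN.y) ^ 8) (by simp [HN.extra])
  have r5 := hrel (r := (HN.x * HN.y * HN.x * (HN.y ^ 3)) ^ 4) (by simp [HN.extra])
  have r6 := hrel (r := HN.z ^ 2) (by simp [HN.extra])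
  have r7 := hrel (r := (HN.z * HN.x) ^ 2) (by simp [HN.extra])
  have r8 := hrel (r := (HN.z⁻¹ * (HN.y * HN.x * HN.y * HN.x * (HN.y ^ 2) * HN.x * (HN.y⁻¹))⁻¹ * HN.z * (HN.y * HN.x * HN.y * HN.x * (HN.y ^ 2) * HN.x * (HN.y⁻¹))) * ((HN.x ^ 2)⁻¹)) (by simp [HN.extra])
  have r9 := hrel (r := HN.z * (((((HN.y ^ 3) * HN.x * HN.y * HN.x * HN.y)⁻¹ * HN.z * ((HN.y ^ 3) * HN.x * HN.y * HN.x * HN.y)) * HN.x) ^ 3)) (by simp [HN.extra])
  have r10 := hrel (r := HN.t ^ 5) (by simp [HN.extra])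
  have r11 := hrel (r := (HN.x⁻¹ * HN.t * HN.x) * (HN.t ^ 2)) (by simp [HN.extra])
  have r12 := hrel (r := HN.t⁻¹ * HN.y⁻¹ * HN.t * HN.y) (by simp [HN.extra])
  have r13 := hrel (r := (HN.z * HN.t) ^ 3) (by simp [HN.extra])
  simp only [HN.x, HN.y, HN.z, HN.t, map_mul, map_pow, map_inv, FreeGroup.lift_apply_of] at r0 r1 r2 r3 r4 r5 r6 r7 r8 r9 r10 r11 r12 r13
  have central : ∀ {c : Γ}, σ c = 1 → ∀ x, Commute x c := fun h x =>
    Subgroup.mem_center_iff.1 (hc (MonoidHom.mem_ker.2 h)) x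
  have hX2 : X ^ 2 ∈ D := pow_mem hXD 2
  have eX4 : X ^ 4 = 1 := hD _ (pow_mem hXD 4) (by rw [map_pow, hX, hX4])
  have e1 : X ^ 2 * Y * X ^ 2 * Y⁻¹ = 1 :=
    hD _ (mul_mem (mul_mem (mul_mem hX2 hYD) hX2) (inv_mem hYD)) (by simp only [map_mul, map_pow, map_inv, hX, hY]; exact r1)
  have qinv : (X ^ 2)⁻¹ = X ^ 2 := by
    rw [inv_eq_iff_mul_eq_one, ← pow_add]
    exact eX4
  have qY : (X ^ 2)⁻¹ * Y * X ^ 2 = Y := by
    rw [qinv]
    exact mul_inv_eq_one.1 e1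
  -- the fifth-order generator
  obtain ⟨t₀, ht₀⟩ := hs (gen .t)
  let c := t₀ ^ 5
  let d := X⁻¹ * t₀ * X * t₀ ^ 2
  have hc' : σ c = 1 := by simp only [c, map_pow, ht₀]; exact r10
  have hd' : σ d = 1 := by simp only [d, map_mul, map_pow, map_inv, hX, ht₀]; exact r11
  have kcd : c ^ 3 = d ^ 5 := by
    have h1 : X⁻¹ * t₀ * X = d * (t₀ ^ 2)⁻¹ := by simp [d]
    have h2 : (X⁻¹ * t₀ * X) ^ 5 = X⁻¹ * t₀ ^ 5 * X := by
      simpa using conj_pow (a := X⁻¹) (b := t₀) (i := 5)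
    rw [h1, (central hd' _).symm.mul_pow, inv_pow, ← pow_mul, show 2 * 5 = 5 * 2 from rfl, pow_mul] at h2
    have h3 : X⁻¹ * c * X = c := by rw [mul_assoc, ← (central hc' X).eq, inv_mul_cancel_left]
    have h4 : d ^ 5 * (c ^ 2)⁻¹ = c := h2.trans h3
    rw [mul_inv_eq_iff_eq_mul] at h4
    rw [pow_succ' c 2, h4]
  let e := c * (d ^ 2)⁻¹
  have he : σ e = 1 := by simp [e, hc', hd']
  let T := t₀ * e
  have hT : σ T = gen .t := by simp [T, he, ht₀]
  have ccd : Commute c d := central hd' c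
  have hT5 : T ^ 5 = 1 := by
    calc T ^ 5 = c * e ^ 5 := (central he t₀).mul_pow 5
      _ = c * (c ^ 5 * ((d ^ 2) ^ 5)⁻¹) := by rw [show e = c * (d ^ 2)⁻¹ from rfl, (ccd.pow_right 2).inv_right.mul_pow, inv_pow]
      _ = c ^ 6 * ((d ^ 5) ^ 2)⁻¹ := by rw [← mul_assoc, ← pow_succ', ← pow_mul d, ← pow_mul d]
      _ = 1 := by rw [← kcd, ← pow_mul c, mul_inv_cancel]
  have hTX : X⁻¹ * T * X * T ^ 2 = 1 := by
    calc X⁻¹ * T * X * T ^ 2 = X⁻¹ * t₀ * (e * X) * (t₀ ^ 2 * e ^ 2) := by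
          rw [show T = t₀ * e from rfl, (central he t₀).mul_pow]; simp only [mul_assoc]
      _ = X⁻¹ * t₀ * X * (e * t₀ ^ 2) * e ^ 2 := by rw [← (central he X).eq]; simp only [mul_assoc]
      _ = d * e ^ 3 := by rw [← (central he (t₀ ^ 2)).eq, pow_succ' e 2]; simp only [d, mul_assoc]
      _ = d * (c ^ 3 * ((d ^ 2) ^ 3)⁻¹) := by rw [show e = c * (d ^ 2)⁻¹ from rfl, (ccd.pow_right 2).inv_right.mul_pow, inv_pow]
      _ = 1 := by rw [kcd, ← pow_mul, ← mul_assoc, ← pow_succ', mul_inv_cancel]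
  have hq : (X ^ 2)⁻¹ * T * X ^ 2 = T⁻¹ := by
    have h1 : X⁻¹ * T * X = (T ^ 2)⁻¹ := eq_inv_of_mul_eq_one_left hTX
    calc (X ^ 2)⁻¹ * T * X ^ 2 = X⁻¹ * (X⁻¹ * T * X) * X := by rw [pow_two]; simp [mul_assoc]
      _ = (X⁻¹ * T ^ 2 * X)⁻¹ := by rw [h1]; simp [mul_assoc]
      _ = ((X⁻¹ * T * X) ^ 2)⁻¹ := by
        congr 1
        simpa using (conj_pow (a := X⁻¹) (b := T) (i := 2)).symm
      _ = T ^ 4 := by rw [h1, inv_pow, inv_inv, ← pow_mul]
      _ = T⁻¹ := by rw [eq_inv_iff_mul_eq_one, ← pow_succ]; exact hT5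
  have hTY : T⁻¹ * Y⁻¹ * T * Y = 1 := by
    let f := T⁻¹ * Y⁻¹ * T * Y
    have hf : σ f = 1 := by simp only [f, map_mul, map_inv, hT, hY]; exact r12
    have h1 : Y⁻¹ * T * Y = T * f := by simp [f, mul_assoc]
    have h5 : f ^ 5 = 1 := by
      have h2 : (Y⁻¹ * T * Y) ^ 5 = Y⁻¹ * T ^ 5 * Y := by simpa using conj_pow (a := Y⁻¹) (b := T) (i := 5)
      rw [h1, (central hf T).mul_pow, hT5, one_mul, mul_one, inv_mul_cancel] at h2
      exact h2
    have h2 : f ^ 2 = 1 := by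
      have hl : (X ^ 2)⁻¹ * (Y⁻¹ * T * Y) * X ^ 2 = Y⁻¹ * T⁻¹ * Y := by
        calc (X ^ 2)⁻¹ * (Y⁻¹ * T * Y) * X ^ 2
            = ((X ^ 2)⁻¹ * Y * X ^ 2)⁻¹ * ((X ^ 2)⁻¹ * T * X ^ 2) * ((X ^ 2)⁻¹ * Y * X ^ 2) := by group
          _ = Y⁻¹ * T⁻¹ * Y := by rw [qY, hq]
      have hr : (X ^ 2)⁻¹ * (T * f) * X ^ 2 = T⁻¹ * f := by
        rw [show (X ^ 2)⁻¹ * (T * f) * X ^ 2 = (X ^ 2)⁻¹ * T * (f * X ^ 2) by group,
          ← (central hf (X ^ 2)).eq, ← mul_assoc, hq]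
      rw [h1] at hl
      have hinv : Y⁻¹ * T⁻¹ * Y = T⁻¹ * f⁻¹ := by
        rw [show Y⁻¹ * T⁻¹ * Y = (Y⁻¹ * T * Y)⁻¹ by group, h1, mul_inv_rev, (central hf T⁻¹).inv_right.eq]
      rw [hr, hinv] at hl
      rw [pow_two]
      exact inv_eq_iff_mul_eq_one.1 (mul_left_cancel hl).symm
    show f = 1
    calc f = f ^ 5 * ((f ^ 2) ^ 2)⁻¹ := by rw [← pow_mul, pow_succ', mul_inv_cancel_right]
      _ = 1 := by rw [h5, h2]; simp
  -- the outer involution
  obtain ⟨z₀, hz₀⟩ := hs (gen .z)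
  let a := z₀ ^ 2
  let h := (z₀ * T) ^ 3
  have ha : σ a = 1 := by simp only [a, map_pow, hz₀]; exact r6
  have hh : σ h = 1 := by simp only [h, map_pow, map_mul, hz₀, hT]; exact r13
  have zX : z₀⁻¹ * X * z₀ = X⁻¹ := by
    refine (mul_inv_eq_one.1 ?_)
    refine hD _ (mul_mem (hn z₀ hz₀ _ hXD) (inv_mem (inv_mem hXD))) ?_
    simp only [map_mul, map_inv, hX, hz₀, inv_inv]
    have hzi : (gen .z)⁻¹ = gen .z := inv_eq_of_mul_eq_one_right (by rw [← pow_two]; exact r6)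
    rw [hzi]
    exact (by rw [pow_two, ← mul_assoc] at r7; exact r7)
  have zq : (X ^ 2)⁻¹ * z₀ * X ^ 2 = z₀ := by
    have h1 : z₀⁻¹ * X ^ 2 * z₀ = (X ^ 2)⁻¹ := by
      rw [show z₀⁻¹ * X ^ 2 * z₀ = (z₀⁻¹ * X * z₀) ^ 2 by rw [pow_two, pow_two]; group, zX, inv_pow]
    calc (X ^ 2)⁻¹ * z₀ * X ^ 2 = (X ^ 2)⁻¹ * z₀ * (X ^ 2) := rfl
      _ = (X ^ 2)⁻¹ * (z₀ * (z₀⁻¹ * X ^ 2 * z₀)) := by
          rw [h1, qinv, mul_assoc]
      _ = z₀ := by group
  have hha : h ^ 2 = a ^ 3 := by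
    have k1 : h = (z₀ * T⁻¹) ^ 3 := by
      calc h = (X ^ 2)⁻¹ * h * X ^ 2 := by rw [mul_assoc, ← (central hh _).eq, inv_mul_cancel_left]
        _ = (((X ^ 2)⁻¹ * z₀ * X ^ 2) * ((X ^ 2)⁻¹ * T * X ^ 2)) ^ 3 := by
            simp only [h, pow_succ, pow_zero, one_mul]; group
        _ = (z₀ * T⁻¹) ^ 3 := by rw [zq, hq]
    have k2 : h = (T * z₀) ^ 3 := by
      calc h = z₀⁻¹ * h * z₀ := by rw [mul_assoc, ← (central hh _).eq, inv_mul_cancel_left]
        _ = (T * z₀) ^ 3 := by simp only [h, pow_succ, pow_zero, one_mul]; group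
    have k3 : h⁻¹ = (a ^ 3)⁻¹ * h := by
      conv_lhs => rw [k2, ← inv_pow, mul_inv_rev,
        show z₀⁻¹ = a⁻¹ * z₀ by simp [a, pow_two, mul_inv_rev, mul_assoc], mul_assoc,
        (central ha _).symm.inv_left.mul_pow, inv_pow, ← k1]
    rw [eq_inv_mul_iff_mul_eq, mul_inv_eq_iff_eq_mul] at k3
    rw [pow_two, k3]
  let g := a * h⁻¹
  have hg : σ g = 1 := by simp [g, ha, hh]
  let Z := z₀ * g
  have hZ : σ Z = gen .z := by simp [Z, hg, hz₀]
  have cah : Commute a h := central hh a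
  have hZ2 : Z ^ 2 = 1 := by
    calc Z ^ 2 = a * (a ^ 2 * (h ^ 2)⁻¹) := by
          rw [(central hg z₀).mul_pow, show g = a * h⁻¹ from rfl, cah.inv_right.mul_pow, inv_pow]
      _ = 1 := by rw [hha, ← mul_assoc, ← pow_succ', mul_inv_cancel]
  have hZT : (Z * T) ^ 3 = 1 := by
    calc (Z * T) ^ 3 = (z₀ * T * g) ^ 3 := by
          rw [show Z = z₀ * g from rfl, mul_assoc, ← (central hg T).eq, ← mul_assoc]
      _ = h * (a ^ 3 * (h ^ 3)⁻¹) := by rw [(central hg _).mul_pow, show g = a * h⁻¹ from rfl, cah.inv_right.mul_pow, inv_pow]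
      _ = 1 := by rw [← hha, ← mul_assoc, ← pow_succ', mul_inv_cancel]
  have zmem : ∀ d ∈ D, Z⁻¹ * d * Z ∈ D := hn Z hZ
  have dsq : ∀ u ∈ D, (Z * u) ^ 2 ∈ D := by
    intro u hu
    have : (Z * u) ^ 2 = Z ^ 2 * (Z⁻¹ * u * Z) * u := by rw [pow_two, pow_two]; group
    rw [this, hZ2, one_mul]
    exact mul_mem (zmem u hu) hu
  have hZX : (Z * X) ^ 2 = 1 := hD _ (dsq X hXD) (by rw [map_pow, map_mul, hZ, hX]; exact r7)
  let w := Y * X * Y * X * Y ^ 2 * X * Y⁻¹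
  have hw : w ∈ D :=
    mul_mem (mul_mem (mul_mem (mul_mem (mul_mem (mul_mem hYD hXD) hYD) hXD) (pow_mem hYD 2)) hXD) (inv_mem hYD)
  have h8 : Z⁻¹ * w⁻¹ * Z * w * (X ^ 2)⁻¹ = 1 := by
    refine hD _ (mul_mem (mul_mem (zmem _ (inv_mem hw)) hw) (inv_mem hX2)) ?_
    simp only [w, map_mul, map_inv, map_pow, hX, hY, hZ]
    exact r8
  let v := Y ^ 3 * X * Y * X * Y
  have hv : v ∈ D := mul_mem (mul_mem (mul_mem (mul_mem (pow_mem hYD 3) hXD) hYD) hXD) hYD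
  have h9 : Z * (v⁻¹ * Z * v * X) ^ 3 = 1 := by
    refine hD _ ?_ (by simp only [v, map_mul, map_inv, map_pow, hX, hY, hZ]; exact r9)
    let u := Z⁻¹ * v⁻¹ * Z * v * X
    have hu : u ∈ D := mul_mem (mul_mem (zmem _ (inv_mem hv)) hv) hXD
    have : Z * (v⁻¹ * Z * v * X) ^ 3 = Z ^ 2 * u * (Z * u) ^ 2 := by
      rw [show v⁻¹ * Z * v * X = Z * u by simp only [u]; group, pow_succ' (Z * u) 2, pow_two Z]
      simp only [mul_assoc]
    rw [this, hZ2, one_mul]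
    exact mul_mem hu (dsq u hu)
  -- the section
  let img : HN.Gen → Γ := fun | .x => X | .y => Y | .z => Z | .t => T
  have hkill : ∀ r ∈ coxRelators HN.edges ∪ {r | r ∈ HN.extra}, FreeGroup.lift img r = 1 := by
    rintro r (⟨x, hx, -⟩ | hr)
    · exact absurd hx (by simp [coxNodes, HN.edges])
    · simp only [HN.extra, Set.mem_setOf_eq, List.mem_cons, List.not_mem_nil, or_false] at hr
      rcases hr with rfl | rfl | rfl | rfl | rfl | rfl | rfl | rfl | rfl | rfl | rfl | rfl | rfl | rfl <;>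
        simp only [HN.x, HN.y, HN.z, HN.t, map_mul, map_pow, map_inv, FreeGroup.lift_apply_of, img]
      · exact hD _ (pow_mem hYD 6) (by rw [map_pow, hY]; exact r0)
      · exact e1
      · exact hD _ (pow_mem (mul_mem (mul_mem (mul_mem (inv_mem hXD) (inv_mem hYD)) hXD) hYD) 3)
          (by simp only [map_pow, map_mul, map_inv, hX, hY]; exact r2)
      · exact hD _ (pow_mem (mul_mem (mul_mem (mul_mem (inv_mem hXD) (pow_mem hYD 2)) hXD) (pow_mem hYD 3)) 3)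
          (by simp only [map_pow, map_mul, map_inv, hX, hY]; exact r3)
      · exact hD _ (pow_mem (mul_mem hXD hYD) 8) (by simp only [map_pow, map_mul, hX, hY]; exact r4)
      · exact hD _ (pow_mem (mul_mem (mul_mem (mul_mem hXD hYD) hXD) (pow_mem hYD 3)) 4)
          (by simp only [map_pow, map_mul, hX, hY]; exact r5)
      · exact hZ2
      · exact hZX
      · exact h8
      · exact h9
      · exact hT5
      · exact hTX
      · exact hTY
      · exact hZT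
  refine ⟨PresentedGroup.toGroup hkill, PresentedGroup.ext fun g => ?_⟩
  rw [MonoidHom.comp_apply, PresentedGroup.toGroup.of, MonoidHom.id_apply]
  cases g <;> simp [img, hX, hY, hZ, hT]

/-- A stem extension with a section has trivial kernel. -/
theorem ker_bot_of_section {G : Type} [Group G] {σ : Γ →* G} (hc : σ.ker ≤ Subgroup.center Γ)
    (hd : σ.ker ≤ commutator Γ) {τ : G →* Γ} (hτ : σ.comp τ = MonoidHom.id _) : σ.ker = ⊥ := by
  have hs : ∀ g, σ (τ g) = g := fun g => DFunLike.congr_fun hτ g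
  have hle : commutator Γ ≤ τ.range := by
    rw [commutator_eq_closure, Subgroup.closure_le]
    rintro _ ⟨a, b, rfl⟩
    have h1 : ∀ a : Γ, ∃ k ∈ σ.ker, a = τ (σ a) * k := fun a =>
      ⟨(τ (σ a))⁻¹ * a, by simp [MonoidHom.mem_ker, hs], by simp⟩
    obtain ⟨k, hk, ea⟩ := h1 a
    obtain ⟨l, hl, eb⟩ := h1 b
    refine ⟨⁅σ a, σ b⁆, ?_⟩
    have ck : ∀ x, Commute x k := fun x => Subgroup.mem_center_iff.1 (hc hk) x
    have cl : ∀ x, Commute x l := fun x => Subgroup.mem_center_iff.1 (hc hl) x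
    rw [map_commutatorElement, commutatorElement_def, commutatorElement_def]
    conv_rhs => rw [ea, eb]
    set p := τ (σ a)
    set q := τ (σ b)
    calc p * q * p⁻¹ * q⁻¹ = p * q * (l * p⁻¹ * l⁻¹) * q⁻¹ := by
          rw [← (cl p⁻¹).eq, mul_inv_cancel_right]
      _ = p * (k * (q * l) * k⁻¹) * p⁻¹ * (q * l)⁻¹ := by
          rw [← (ck (q * l)).eq, mul_inv_cancel_right, mul_inv_rev]; simp only [mul_assoc]
      _ = p * k * (q * l) * (p * k)⁻¹ * (q * l)⁻¹ := by group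
  rw [eq_bot_iff]
  intro k hk
  obtain ⟨g, rfl⟩ := hle (hd hk)
  rw [MonoidHom.mem_ker, hs] at hk
  simp [hk]

end CfsgLib.HNMult
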