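import Cfsg.Agent.Lib.Presented.HNxyz.SimpleOfIndex
import Cfsg.Agent.Lib.Schur.MultiplierHS

/-!
In a stem extension of the presented Harada-Norton group the derived subgroup of the preimage of
`2·HS` maps isomorphically onto it.
-/

set_option autoImplicit false
set_option maxRecDepth 8000

namespace CfsgLib.HNMult

open CfsgLib.Presented.HNxyz
open scoped commutatorElement

variable {Γ : Type} [Group Γ] (σ : Γ →* Cfsg.Spor.HN)

/-- the image of the even subgroup -/
noncomputable abbrev N₀ : Subgroup Cfsg.Spor.HN := K.map psi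

/-- the preimage of the even subgroup -/
noncomputable abbrev Lam : Subgroup Γ := N₀.comap σ

/-- its derived subgroup -/
noncomputable abbrev D : Subgroup Γ := ⁅Lam σ, Lam σ⁆

theorem N₀_perfect : ⁅N₀, N₀⁆ = N₀ := by
  rw [← Subgroup.map_commutator]
  exact congrArg _ (le_antisymm (Subgroup.commutator_le_left _ _) K_le_derived)

theorem D_le : D σ ≤ Lam σ := Subgroup.commutator_le.2 fun a ha b hb => by
  rw [commutatorElement_def]
  exact mul_mem (mul_mem (mul_mem ha hb) (inv_mem ha)) (inv_mem hb)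

variable {σ}

theorem map_Lam (hs : Function.Surjective σ) : (Lam σ).map σ = N₀ :=
  Subgroup.map_comap_eq_self_of_surjective hs _

theorem map_D (hs : Function.Surjective σ) : (D σ).map σ = N₀ := by
  rw [Subgroup.map_commutator, map_Lam hs, N₀_perfect]

theorem D_perfect (hs : Function.Surjective σ) (hc : σ.ker ≤ Subgroup.center Γ) :
    commutator (D σ) = ⊤ := by
  apply Subgroup.map_injective (D σ).subtype_injective
  rw [Subgroup.map_subtype_commutator, ← MonoidHom.range_eq_map, Subgroup.range_subtype]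
  refine le_antisymm (Subgroup.commutator_le.2 fun a ha b hb => ?_) (Subgroup.commutator_le.2 fun a ha b hb => ?_)
  · rw [commutatorElement_def]
    exact mul_mem (mul_mem (mul_mem ha hb) (inv_mem ha)) (inv_mem hb)
  · obtain ⟨d, hd, e⟩ : σ a ∈ (D σ).map σ := by rw [map_D hs]; exact ha
    obtain ⟨d', hd', e'⟩ : σ b ∈ (D σ).map σ := by rw [map_D hs]; exact hb
    have hz : d⁻¹ * a ∈ σ.ker := by simp [MonoidHom.mem_ker, e]
    have hz' : d'⁻¹ * b ∈ σ.ker := by simp [MonoidHom.mem_ker, e']
    have h : ∀ x, x * (d⁻¹ * a) = (d⁻¹ * a) * x := Subgroup.mem_center_iff.1 (hc hz)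
    have h' : ∀ x, x * (d'⁻¹ * b) = (d'⁻¹ * b) * x := Subgroup.mem_center_iff.1 (hc hz')
    have key : ∀ {z z' : Γ}, (∀ x, x * z = z * x) → (∀ x, x * z' = z' * x) → ⁅d * z, d' * z'⁆ = ⁅d, d'⁆ := by
      intro z z' hz hz'
      have c₁ : ∀ x, Commute x z := hz
      have c₂ : ∀ x, Commute x z' := hz'
      rw [commutatorElement_def, commutatorElement_def, mul_inv_rev, mul_inv_rev]
      calc d * z * (d' * z') * (z⁻¹ * d⁻¹) * (z'⁻¹ * d'⁻¹)
          = d * (z * (d' * z') * z⁻¹) * d⁻¹ * (z'⁻¹ * d'⁻¹) := by group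
        _ = d * (d' * z') * d⁻¹ * (z'⁻¹ * d'⁻¹) := by rw [← (c₁ (d' * z')).eq, mul_inv_cancel_right]
        _ = d * d' * (z' * d⁻¹ * z'⁻¹) * d'⁻¹ := by group
        _ = d * d' * d⁻¹ * d'⁻¹ := by rw [← (c₂ d⁻¹).eq, mul_inv_cancel_right]
    rw [← mul_inv_cancel_left d a, ← mul_inv_cancel_left d' b, key h h']
    exact Subgroup.commutator_mem_commutator hd hd'

theorem card_N₀ : Nat.card N₀ = 88704000 := by
  rw [Subgroup.card_map_of_injective psi_injective, card_K_eq, card_P, ← card_ker_eq, card_sig_ker]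

/-- On the derived subgroup `σ` is injective. -/
theorem D_inj [Finite Γ] (hs : Function.Surjective σ) (hc : σ.ker ≤ Subgroup.center Γ) {u : Γ}
    (hu : u ∈ D σ) (h1 : σ u = 1) : u = 1 := by
  let eK : K ≃* N₀ := K.equivMapOfInjective psi psi_injective
  let g : D σ →* N₀ := (σ.comp (D σ).subtype).codRestrict N₀ fun d => D_le σ d.2
  have hg : Function.Surjective g := by
    rintro ⟨n, hn⟩
    rw [← map_D hs] at hn
    obtain ⟨d, hd, rfl⟩ := hn
    exact ⟨⟨d, hd⟩, Subtype.ext rfl⟩
  let f : D σ →* Cfsg.Spor.HS := exists_iso.some.toMonoidHom.comp (sig.comp (eK.symm.toMonoidHom.comp g))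
  have hfs : Function.Surjective f :=
    exists_iso.some.surjective.comp (sig_surj.comp (eK.symm.surjective.comp hg))
  have hperf := D_perfect hs hc
  have hfc : f.ker ≤ Subgroup.center (D σ) := by
    intro d hd
    have hk : eK.symm (g d) ∈ Subgroup.center K := sig_central (by simpa [f, MonoidHom.mem_ker] using hd)
    have hcz : ∀ e : D σ, ⁅(d : Γ), (e : Γ)⁆ ∈ Subgroup.center Γ := by
      intro e
      apply hc
      have := Subgroup.mem_center_iff.1 hk (eK.symm (g e))
      have he : g e * g d = g d * g e := eK.symm.injective (by rw [map_mul, map_mul]; exact this)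
      have he' : σ (e : Γ) * σ (d : Γ) = σ (d : Γ) * σ (e : Γ) := congrArg Subtype.val he
      rw [MonoidHom.mem_ker, map_commutatorElement]
      exact commutatorElement_eq_one_iff_mul_comm.2 he'.symm
    let χ : D σ →* Subgroup.center Γ :=
      { toFun := fun e => ⟨⁅(d : Γ), (e : Γ)⁆, hcz e⟩
        map_one' := by ext; simp
        map_mul' := fun e e' => by
          ext
          show ⁅(d : Γ), (e : Γ) * (e' : Γ)⁆ = ⁅(d : Γ), (e : Γ)⁆ * ⁅(d : Γ), (e' : Γ)⁆
          rw [commutatorElement_mul_right_eq_mul_conj (d : Γ) e e', mul_assoc _ (e : Γ),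
            Subgroup.mem_center_iff.1 (hcz e') (e : Γ), ← mul_assoc, mul_inv_cancel_right] }
    have hχ : χ.ker = ⊤ := by
      refine top_le_iff.1 (hperf ▸ ?_)
      rw [commutator_eq_closure, Subgroup.closure_le]
      rintro _ ⟨a, b, rfl⟩
      rw [SetLike.mem_coe, MonoidHom.mem_ker, map_commutatorElement]
      exact commutatorElement_eq_one_iff_mul_comm.2
        (Subtype.ext (Subgroup.mem_center_iff.1 (χ a).2 (χ b : Γ)).symm)
    refine Subgroup.mem_center_iff.2 fun e => ?_
    have h0 : χ e = 1 := MonoidHom.mem_ker.1 (hχ ▸ Subgroup.mem_top e)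
    exact Subtype.ext (commutatorElement_eq_one_iff_mul_comm.1 (congrArg Subtype.val h0)).symm
  have hstem : Cfsg.IsStemExtension f := ⟨hfs, hfc, hperf ▸ le_top⟩
  obtain ⟨π, hπ⟩ := Schur.MultiplierHS.multiplier.2 _ f hstem
  have hker : Nat.card f.ker ≤ 2 := by
    refine (Nat.card_le_card_of_surjective π hπ).trans_eq ?_
    simp
  have hHS : Nat.card Cfsg.Spor.HS = 44352000 :=
    (Nat.card_congr exists_iso.some.toEquiv).symm.trans card_P
  have hD : Nat.card (D σ) ≤ 88704000 := by
    rw [← Subgroup.card_mul_index f.ker, Subgroup.index_ker, MonoidHom.range_eq_top.2 hfs, Subgroup.card_top,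
      hHS]
    omega
  have hbij : Function.Bijective g := hg.bijective_of_nat_card_le (card_N₀ ▸ hD)
  exact congrArg Subtype.val (hbij.1 (a₁ := ⟨u, hu⟩) (a₂ := 1) (Subtype.ext (h1.trans (map_one σ).symm)))

end CfsgLib.HNMult
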