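import Cfsg.Agent.Lib.HNMult.Core
import Cfsg.Agent.Lib.HNMult.Derived

/-!
Every stem extension of the presented Harada-Norton group is trivial, so its Schur multiplier is
trivial as soon as the group is known to be finite.
-/

set_option autoImplicit false

namespace CfsgLib.HNMult

open CfsgLib.Presented.HNxyz

/-- The kernel of a finite stem extension of the presented group is trivial. -/
theorem stem_ker_bot {Γ : Type} [Group Γ] [Finite Γ] {σ : Γ →* Cfsg.Spor.HN}
    (h : Cfsg.IsStemExtension σ) : σ.ker = ⊥ := by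
  obtain ⟨hs, hc, hd⟩ := h
  have hxN : hX ∈ N₀ := ⟨gx, gx_mem, psi_gens.1⟩
  have hyN : hY ∈ N₀ := ⟨gy, gy_mem, psi_gens.2.1⟩
  rw [← map_D hs] at hxN hyN
  obtain ⟨X, hXD, eX⟩ := hxN
  obtain ⟨Y, hYD, eY⟩ := hyN
  have hX4 : hX ^ 4 = 1 := by
    have h2 : (⟨gx ^ 2, sq_mem_K⟩ : K) ∈ sig.ker := by
      rw [sig_ker, Subgroup.mem_subgroupOf]
      exact MonoidHom.mem_ker.2 phi_sq
    have h4 : (⟨gx ^ 2, sq_mem_K⟩ : K) ^ 2 = 1 := by
      have := pow_card_eq_one' (G := sig.ker) (x := ⟨⟨gx ^ 2, sq_mem_K⟩, h2⟩)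
      rw [card_sig_ker] at this
      exact congrArg Subtype.val this
    have h4' : (gx ^ 2) ^ 2 = 1 := congrArg Subtype.val h4
    rw [← psi_gens.1, ← map_pow, show 4 = 2 * 2 from rfl, pow_mul, h4', map_one]
  have hn : ∀ g : Γ, σ g = hZ → ∀ d ∈ D σ, g⁻¹ * d * g ∈ D σ := by
    intro g hg
    have hL : (Lam σ).map (MulAut.conj g⁻¹).toMonoidHom ≤ Lam σ := by
      rintro _ ⟨l, hl, rfl⟩
      obtain ⟨k, hk, e⟩ := hl
      refine ⟨gz⁻¹ * k * gz, ?_, ?_⟩
      · simpa using (inferInstance : K.Normal).conj_mem k hk gz⁻¹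
      · simp [hg, ← psi_gens.2.2, e]
    intro d hd'
    have : g⁻¹ * d * g ∈ (D σ).map (MulAut.conj g⁻¹).toMonoidHom := ⟨d, hd', by simp⟩
    rw [Subgroup.map_commutator] at this
    exact Subgroup.commutator_mono hL hL this
  obtain ⟨τ, hτ⟩ := exists_section hs hc (D σ) (fun u hu h1 => D_inj hs hc hu h1) hXD hYD eX eY hX4 hn
  exact ker_bot_of_section hc hd hτ

/-- The multiplier of the presented Harada-Norton group is trivial, given that the group is finite. -/
theorem multiplier_of_finite [Finite Cfsg.Spor.HN] : Cfsg.HasCyclicSchurMultiplier Cfsg.Spor.HN 1 := by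
  constructor
  · refine ⟨Cfsg.Spor.HN, inferInstance, inferInstance, MonoidHom.id _,
      ⟨Function.surjective_id, ?_, ?_⟩, ⟨?_⟩⟩
    · intro a ha; rw [MonoidHom.mem_ker, MonoidHom.id_apply] at ha; rw [ha]; exact one_mem _
    · intro a ha; rw [MonoidHom.mem_ker, MonoidHom.id_apply] at ha; rw [ha]; exact one_mem _
    · haveI : Subsingleton (MonoidHom.id Cfsg.Spor.HN).ker :=
        ⟨fun a b => Subtype.ext ((MonoidHom.mem_ker.1 a.2).trans (MonoidHom.mem_ker.1 b.2).symm)⟩
      exact { toFun := fun _ => 1, invFun := fun _ => 1, left_inv := fun a => Subsingleton.elim _ _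
              right_inv := fun a => Subsingleton.elim _ _, map_mul' := fun a b => Subsingleton.elim _ _ }
  · intro Γ _ _ σ h
    refine ⟨1, fun a => ⟨1, ?_⟩⟩
    rw [MonoidHom.one_apply]
    exact Subtype.ext ((Subgroup.eq_bot_iff_forall _).1 (stem_ker_bot h) _ a.2).symm

end CfsgLib.HNMult
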